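import Cfsg.Agent.H704.S8.Defs_m3
import Cfsg.Agent.H621.SymDeg.Chars
import Cfsg.Agent.S2040
import Cfsg.Agent.Schreier.Cases
import Cfsg.Agent.H358.TwoTransMod4
import Cfsg.Agent.H363.Frat
import Cfsg.Agent.FastGrp
import Cfsg.Agent.Prune
set_option linter.all false

section
prune_inst 0x7f00000000000000000000000000000000000000000000000000000000000000000000000000000000000000000000000000000000000000000000000000000000000000000000000000000000000000003fffffffffffffffffffffffffffbeffbdffffffff

-- part: H704/Elim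
section
set_option linter.all false
open scoped Cfsg.Agent.FastGrp

/-!
# Elimination of simple quotients by degrees (helper704)
-/

set_option autoImplicit false
set_option linter.unusedSectionVars false

universe u

namespace Cfsg.Agent.H704

open Cfsg

theorem DegOK.of_surj {n : ℕ} {H T : Type u} [Group H] [Finite H] [Group T] [Finite T] (h : DegOK n H) (f : H →* T)
    (hf : Function.Surjective f) : DegOK n T := by
  intro ψ hψ
  obtain ⟨d, h1, h2⟩ := h (ψ ∘ f) (Characters.Core.isIrr_comp f hf hψ)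
  rw [Function.comp_apply, map_one] at h2
  exact ⟨d, h1, h2⟩

theorem DegOK.nat {n : ℕ} {T : Type u} [Group T] (h : DegOK n T) {ψ : T → ℂ} (hψ : IsIrrCharacter T ψ) {e : ℕ}
    (he : ψ 1 = e) : ∃ d : ℕ, IsDeg n d ∧ (d = e ∨ d = 2 * e) := by
  obtain ⟨d, h1, h2⟩ := h ψ hψ
  refine ⟨d, h1, ?_⟩
  rw [he] at h2
  rcases h2 with h2 | h2
  · exact Or.inl (by exact_mod_cast h2)
  · exact Or.inr (by exact_mod_cast h2)

/-- alternating quotients -/
theorem alt_elim {n m : ℕ} (hn : 9 ≤ n) {T : Type u} [Group T] [Finite T] (hd : DegOK n T) (hm : 5 ≤ m)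
    (e : T ≃* alternatingGroup (Fin m)) {r : ℕ} (hr : r.Prime) (hrn : n + 1 < 2 * r)
    (hrT : r ∣ Nat.card T) (hdvd : 2 * Nat.card T ∣ n.factorial) : m = n := by
  have : Nontrivial (Fin m) := Fin.nontrivial_iff_two_le.2 (by omega)
  have hcard : 2 * Nat.card T = m.factorial := by
    rw [Nat.card_congr e.toEquiv, two_mul_nat_card_alternatingGroup, Nat.card_perm, Nat.card_fin]
  have hmn : m ≤ n := by
    by_contra hne
    have h1 : n.factorial < m.factorial := (Nat.factorial_lt (by omega)).2 (by omega)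
    have h2 := Nat.le_of_dvd (Nat.factorial_pos n) hdvd
    omega
  have hrm : r ≤ m := by
    have h1 : r ∣ m.factorial := by rw [← hcard]; exact hrT.mul_left 2
    exact (hr.dvd_factorial).1 h1
  obtain ⟨ψ, hψ, hψ1⟩ := H621.SymDeg.alt_irr hm e
  obtain ⟨d, h1, h2⟩ := hd.nat hψ hψ1
  rcases low_degree hn h1 with h3 | h3 | h3
  · omega
  · omega
  · exfalso
    have h4 : 2 * d ≤ 4 * (n - 1) := by omega
    have h5 : n * (n - 3) ≤ 4 * (n - 1) := h3.trans h4
    obtain ⟨k, rfl⟩ := Nat.exists_eq_add_of_le hn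
    rw [show 9 + k - 3 = 6 + k by omega, show 9 + k - 1 = 8 + k by omega] at h5
    nlinarith only [h5]

/-- the check for `|T| = 6048`, `n = 12` -/
def chk12 (d : ℕ) : Bool := !(Nat.beq (Nat.mod 12096 d) 0) || decide (d = 1) || decide (Nat.mod d 3 = 0)

theorem deg_twelve {d : ℕ} (h : IsDeg 12 d) (hd : d ∣ 12096) : d = 1 ∨ 3 ∣ d := by
  have h1 := check_of_isDeg (chk := chk12) (by decide +kernel) h
  unfold chk12 at h1
  rw [show Nat.mod 12096 d = 0 from Nat.mod_eq_zero_of_dvd hd] at h1
  simp only [Bool.or_eq_true, decide_eq_true_eq, Bool.not_eq_true'] at h1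
  rcases h1 with (h | h) | h
  · exact absurd h (by decide)
  · exact Or.inl h
  · exact Or.inr (Nat.dvd_of_mod_eq_zero h)

/-- quotients of Lie type in characteristic `p` -/
theorem lie_elim {n : ℕ} (hn : 10 ≤ n)
    (hPP : ∀ {d p e : ℕ}, IsDeg n d → p.Prime → 0 < e → (d = p ^ e ∨ d = 2 * p ^ e) → d = n - 1 ∨ (n = 12 ∧ d = 54))
    {p : ℕ} (hp : p.Prime) {T : Type u} [Group T] [Finite T] (hT : commutator T = ⊤) (hd : DegOK n T) {a : ℕ}
    (ha : a = (Nat.card T).factorization p)
    (hSt : ∃ χ : T → ℂ, IsIrrCharacter T χ ∧ χ 1 = ((p ^ a : ℕ) : ℂ))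
    (hcube : Nat.card T < (p ^ a) ^ 3)
    (hsmall : 9 ≤ p ^ a → p ^ a ≤ 18 → Nat.card T * Nat.gcd 2 (p ^ a - 1) = p ^ a * ((p ^ a) ^ 2 - 1))
    (h12 : n = 12 → p ^ a = 27 → Nat.card T = 6048) : False := by
  have hcard : 0 < Nat.card T := Nat.card_pos
  have ha0 : 0 < a := by
    apply Nat.pos_of_ne_zero
    intro h0
    rw [h0, pow_zero, one_pow] at hcube
    omega
  have hpT : p ∣ Nat.card T := by
    rw [ha] at ha0
    exact Nat.dvd_of_factorization_pos ha0.ne'
  obtain ⟨ψ, e, hψ, hψe, he1, hpe, heT, hee⟩ := H621.SymDeg.exists_irr_not_dvd hT hp hpT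
  obtain ⟨χ, hχ, hχ1⟩ := hSt
  obtain ⟨d0, h1, h2⟩ := hd.nat hχ hχ1
  obtain ⟨d1, g1, g2⟩ := hd.nat hψ hψe
  have hpu : p ∣ p ^ a := dvd_pow_self p ha0.ne'
  obtain ⟨q, hq⟩ : ∃ q, q = p ^ a := ⟨_, rfl⟩
  have hpp : IsPrimePow q := by rw [hq]; exact hp.isPrimePow.pow ha0.ne'
  rcases hPP h1 hp ha0 h2 with h3 | ⟨h3, h4⟩
  · -- `d0 = n - 1`
    rw [← hq] at h2 hcube hsmall hpu
    rcases low_degree (by omega) g1 with g3 | g3 | g3
    · omega
    · -- `d1 = n - 1`
      have key : e = q ∨ e = 2 * q ∨ 2 * e = q := by (clear * - hn g2 h2 h3 g3; omega)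
      rcases key with k | k | k
      · exact hpe (k ▸ hpu)
      · exact hpe (k ▸ hpu.mul_left 2)
      · have h5 : p ∣ 2 * e := by rw [k]; exact hpu
        have h6 : p = 2 := by
          rcases hp.dvd_mul.1 h5 with h | h
          · exact (Nat.prime_dvd_prime_iff_eq hp Nat.prime_two).1 h
          · exact absurd h hpe
        subst h6
        obtain ⟨b, rfl⟩ : ∃ b, a = b + 1 := ⟨a - 1, by omega⟩
        rw [hq, pow_succ'] at k
        have h7 : e = 2 ^ b := by omega
        rcases Nat.eq_zero_or_pos b with hb | hb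
        · rw [hb, pow_zero] at h7; omega
        · exact hpe (h7 ▸ dvd_pow_self 2 hb.ne')
    · have h5 : n * (n - 3) ≤ 4 * e := by (clear * - g2 g3; omega)
      rcases h2 with h2 | h2
      · -- `q = n - 1`
        have hnq : n = q + 1 := by omega
        by_cases hq19 : 19 ≤ q
        · obtain ⟨v, hv⟩ := Nat.exists_eq_add_of_le hq19
          rw [hnq, hv, show 19 + v + 1 - 3 = 17 + v by omega] at h5
          rw [hv] at hcube
          have h6 : ((19 + v + 1) * (17 + v)) * ((19 + v + 1) * (17 + v)) ≤ (4 * e) * (4 * e) := Nat.mul_le_mul h5 h5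
          have h7 : e * e < (19 + v) ^ 3 := hee.trans hcube
          linarith only [hee, hcube, h6, pow_nonneg (Nat.zero_le v) 3, pow_nonneg (Nat.zero_le v) 4, _root_.sq_nonneg (↑v : ℤ), _root_.Nat.cast_nonneg (α := ℤ) (v)]
        · have hs := hsmall (by omega) (by omega)
          have hq9 : 9 ≤ q := by omega
          have hq18 : q ≤ 18 := by omega
          rw [hnq] at h5
          clear hcube h1 hχ1 hnq h3 hsmall hPP
          interval_cases q
          · -- 9
            have hp3 : p = 3 := by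
              have h6 : p ∣ 3 := hp.dvd_of_dvd_pow (show p ∣ 3 ^ 2 from hpu)
              exact (Nat.prime_dvd_prime_iff_eq hp Nat.prime_three).1 h6
            subst hp3
            have h7 : Nat.card T = 360 := by norm_num at hs; omega
            rw [h7] at hee
            have h8 : e < 19 := by nlinarith only [hee]
            have h9 : e = 18 := by omega
            exact hpe (by rw [h9]; norm_num)
          · exact absurd hpp (by rw [isPrimePow_nat_iff_bounded]; decide)
          · have h7 : Nat.card T = 660 := by norm_num at hs; omega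
            rw [h7] at hee
            nlinarith only [hee, h5]
          · exact absurd hpp (by rw [isPrimePow_nat_iff_bounded]; decide +kernel)
          · have h7 : Nat.card T = 1092 := by norm_num at hs; omega
            rw [h7] at hee
            nlinarith only [hee, h5]
          · exact absurd hpp (by rw [isPrimePow_nat_iff_bounded]; decide +kernel)
          · exact absurd hpp (by rw [isPrimePow_nat_iff_bounded]; decide +kernel)
          · -- 16
            have hp2 : p = 2 := by
              have h6 : p ∣ 2 := hp.dvd_of_dvd_pow (show p ∣ 2 ^ 4 from hpu)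
              exact (Nat.prime_dvd_prime_iff_eq hp Nat.prime_two).1 h6
            subst hp2
            have h7 : Nat.card T = 4080 := by norm_num at hs; omega
            rw [h7] at hee heT
            have h8 : e < 64 := by nlinarith only [hee]
            have h9 : 60 ≤ e := by omega
            interval_cases e <;> revert heT hpe <;> decide
          · have h7 : Nat.card T = 2448 := by norm_num at hs; omega
            rw [h7] at hee
            nlinarith only [hee, h5]
          · exact absurd hpp (by rw [isPrimePow_nat_iff_bounded]; decide +kernel)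
      · -- `2 q = n - 1`
        have hnq : n = 2 * q + 1 := by omega
        have hq5 : 5 ≤ q := by omega
        obtain ⟨v, hv⟩ := Nat.exists_eq_add_of_le hq5
        rw [hnq, hv, show 2 * (5 + v) + 1 - 3 = 8 + 2 * v by omega] at h5
        rw [hv] at hcube
        have h6 : ((2 * (5 + v) + 1) * (8 + 2 * v)) * ((2 * (5 + v) + 1) * (8 + 2 * v)) ≤ (4 * e) * (4 * e) :=
          Nat.mul_le_mul h5 h5
        have h7 : e * e < (5 + v) ^ 3 := hee.trans hcube
        linarith only [hee, hcube, h6, pow_nonneg (Nat.zero_le v) 3, pow_nonneg (Nat.zero_le v) 4, _root_.sq_nonneg (↑v : ℤ), _root_.Nat.cast_nonneg (α := ℤ) (v)]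
  · -- `n = 12`, `d0 = 54`
    subst h3
    rw [← hq] at h2 hpu h12
    have hq27 : q = 27 := by
      rcases h2 with h2 | h2
      · exfalso
        have h5 : p ^ a = 54 := by rw [← hq, ← h2, h4]
        have h6 : 2 ∣ p := Nat.prime_two.dvd_of_dvd_pow (show 2 ∣ p ^ a by rw [h5]; norm_num)
        have h7 : 3 ∣ p := Nat.prime_three.dvd_of_dvd_pow (show 3 ∣ p ^ a by rw [h5]; norm_num)
        have h8 := (Nat.prime_dvd_prime_iff_eq Nat.prime_two hp).1 h6
        have h9 := (Nat.prime_dvd_prime_iff_eq Nat.prime_three hp).1 h7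
        omega
      · omega
    have hp3 : p = 3 := by
      have h6 : p ∣ 3 := hp.dvd_of_dvd_pow (show p ∣ 3 ^ 3 by rw [hq27] at hpu; exact hpu)
      exact (Nat.prime_dvd_prime_iff_eq hp Nat.prime_three).1 h6
    subst hp3
    have h7 := h12 rfl hq27
    rw [h7] at heT
    have h8 : d1 ∣ 12096 := by
      rcases g2 with rfl | rfl
      · exact heT.trans (by norm_num)
      · exact (Nat.mul_dvd_mul_left 2 heT).trans (by norm_num)
    rcases deg_twelve g1 h8 with h9 | h9
    · omega
    · rcases g2 with rfl | rfl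
      · exact hpe h9
      · rcases (Nat.prime_three.dvd_mul).1 h9 with h | h
        · omega
        · exact hpe h

end Cfsg.Agent.H704
end

-- part: H704/SporCases
section
set_option linter.all false
open scoped Cfsg.Agent.FastGrp

-- part: H704/DegJ3
section
/-!
# Degrees of `S_n` dividing `2 |J_3|` for `n = 22, 25, 26, 27, 28` (helper704)
-/

set_option autoImplicit false

namespace Cfsg.Agent.H704

/-- the check -/
def j3Chk (d : ℕ) : Bool :=
  !(Nat.beq (Nat.mod (2 * 50232960) d) 0) || decide (d = 1) || decide (Nat.mod d 3 = 0)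

theorem of_j3Chk {d : ℕ} (h : j3Chk d = true) (hd : d ∣ 2 * 50232960) : d = 1 ∨ 3 ∣ d := by
  unfold j3Chk at h
  rw [show Nat.mod (2 * 50232960) d = 0 from Nat.mod_eq_zero_of_dvd hd] at h
  simp only [Bool.or_eq_true, decide_eq_true_eq, Bool.not_eq_true'] at h
  rcases h with (h | h) | h
  · exact absurd h (by decide)
  · exact Or.inl h
  · exact Or.inr (Nat.dvd_of_mod_eq_zero h)

theorem not_dvd_J3 {d : ℕ} (hd : d ∣ 2 * 50232960) : ¬ 23 ∣ d := fun h => by
  have := h.trans hd
  revert this
  decide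

theorem deg_J3_22 {d : ℕ} (h : IsDeg 22 d) (hd : d ∣ 2 * 50232960) : d = 1 ∨ 3 ∣ d :=
  of_j3Chk (check_of_isDeg (chk := j3Chk) (go_of_fast (by decide +kernel)) h) hd

theorem deg_J3_25 {d : ℕ} (h : IsDeg 25 d) (hd : d ∣ 2 * 50232960) : d = 1 ∨ 3 ∣ d :=
  of_j3Chk (check_of_isDegP (chk := j3Chk) (n := 25) (E := 2) (r := 23) (by norm_num) (by norm_num) (by norm_num)
    (goP_of_fast (by decide +kernel)) h (not_dvd_J3 hd)) hd

theorem deg_J3_26 {d : ℕ} (h : IsDeg 26 d) (hd : d ∣ 2 * 50232960) : d = 1 ∨ 3 ∣ d :=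
  of_j3Chk (check_of_isDegP (chk := j3Chk) (n := 26) (E := 3) (r := 23) (by norm_num) (by norm_num) (by norm_num)
    (goP_of_fast (by decide +kernel)) h (not_dvd_J3 hd)) hd

theorem deg_J3_27 {d : ℕ} (h : IsDeg 27 d) (hd : d ∣ 2 * 50232960) : d = 1 ∨ 3 ∣ d :=
  of_j3Chk (check_of_isDegP (chk := j3Chk) (n := 27) (E := 4) (r := 23) (by norm_num) (by norm_num) (by norm_num)
    (goP_of_fast (by decide +kernel)) h (not_dvd_J3 hd)) hd

theorem deg_J3_28 {d : ℕ} (h : IsDeg 28 d) (hd : d ∣ 2 * 50232960) : d = 1 ∨ 3 ∣ d :=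
  of_j3Chk (check_of_isDegP (chk := j3Chk) (n := 28) (E := 5) (r := 23) (by norm_num) (by norm_num) (by norm_num)
    (goP_of_fast (by decide +kernel)) h (not_dvd_J3 hd)) hd

theorem deg_J3 {n d : ℕ} (hn : n = 22 ∨ n = 25 ∨ n = 26 ∨ n = 27 ∨ n = 28) (h : IsDeg n d) (hd : d ∣ 2 * 50232960) :
    d = 1 ∨ 3 ∣ d := by
  rcases hn with rfl | rfl | rfl | rfl | rfl
  · exact deg_J3_22 h hd
  · exact deg_J3_25 h hd
  · exact deg_J3_26 h hd
  · exact deg_J3_27 h hd
  · exact deg_J3_28 h hd

end Cfsg.Agent.H704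
end

-- part: H704/DegRu
section
/-!
# Degrees of `S_n` dividing `2 |Ru|` for `n = 35, 36` (helper704)
-/

set_option autoImplicit false

namespace Cfsg.Agent.H704

/-- the check -/
def ruChk (d : ℕ) : Bool :=
  !(Nat.beq (Nat.mod (2 * 145926144000) d) 0) || decide (d = 1) || decide (Nat.mod d 5 = 0)

theorem of_ruChk {d : ℕ} (h : ruChk d = true) (hd : d ∣ 2 * 145926144000) : d = 1 ∨ 5 ∣ d := by
  unfold ruChk at h
  rw [show Nat.mod (2 * 145926144000) d = 0 from Nat.mod_eq_zero_of_dvd hd] at h
  simp only [Bool.or_eq_true, decide_eq_true_eq, Bool.not_eq_true'] at h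
  rcases h with (h | h) | h
  · exact absurd h (by decide)
  · exact Or.inl h
  · exact Or.inr (Nat.dvd_of_mod_eq_zero h)

theorem not_dvd_Ru {d : ℕ} (hd : d ∣ 2 * 145926144000) : ¬ 31 ∣ d := fun h => by
  have := h.trans hd
  revert this
  decide

theorem deg_Ru_35 {d : ℕ} (h : IsDeg 35 d) (hd : d ∣ 2 * 145926144000) : d = 1 ∨ 5 ∣ d :=
  of_ruChk (check_of_isDegP (chk := ruChk) (n := 35) (E := 4) (r := 31) (by norm_num) (by norm_num) (by norm_num)
    (goP_of_fast (by decide +kernel)) h (not_dvd_Ru hd)) hd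

theorem deg_Ru_36 {d : ℕ} (h : IsDeg 36 d) (hd : d ∣ 2 * 145926144000) : d = 1 ∨ 5 ∣ d :=
  of_ruChk (check_of_isDegP (chk := ruChk) (n := 36) (E := 5) (r := 31) (by norm_num) (by norm_num) (by norm_num)
    (goP_of_fast (by decide +kernel)) h (not_dvd_Ru hd)) hd

theorem deg_Ru {n d : ℕ} (hn : n = 35 ∨ n = 36) (h : IsDeg n d) (hd : d ∣ 2 * 145926144000) : d = 1 ∨ 5 ∣ d := by
  rcases hn with rfl | rfl
  · exact deg_Ru_35 h hd
  · exact deg_Ru_36 h hd

end Cfsg.Agent.H704
end

-- part: H704/SporCases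
section
/-!
# Sporadic quotients (helper704)
-/

set_option autoImplicit false
set_option linter.unusedSectionVars false

universe u

namespace Cfsg.Agent.H704

open Cfsg Subgroup

/-- `J_3` -/
theorem j3_elim {n : ℕ} (hn : n = 22 ∨ n = 25 ∨ n = 26 ∨ n = 27 ∨ n = 28) {T : Type u} [Group T] [Finite T]
    (hT : commutator T = ⊤) (hd : DegOK n T) (hc : Nat.card T = 50232960) : False := by
  obtain ⟨ψ, e, hψ, hψe, he1, hpe, heT, -⟩ := H621.SymDeg.exists_irr_not_dvd hT Nat.prime_three
    (by rw [hc]; norm_num)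
  obtain ⟨d, h1, h2⟩ := hd.nat hψ hψe
  rw [hc] at heT
  have h3 : d ∣ 2 * 50232960 := by
    rcases h2 with rfl | rfl
    · exact heT.mul_left 2
    · exact Nat.mul_dvd_mul_left 2 heT
  rcases deg_J3 hn h1 h3 with h4 | h4
  · omega
  · rcases h2 with rfl | rfl
    · exact hpe h4
    · rcases (Nat.prime_three.dvd_mul).1 h4 with h | h
      · omega
      · exact hpe h

/-- `Ru` -/
theorem ru_elim {n : ℕ} (hn : n = 35 ∨ n = 36) {T : Type u} [Group T] [Finite T]
    (hT : commutator T = ⊤) (hd : DegOK n T) (hc : Nat.card T = 145926144000) : False := by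
  obtain ⟨ψ, e, hψ, hψe, he1, hpe, heT, -⟩ := H621.SymDeg.exists_irr_not_dvd hT Nat.prime_five
    (by rw [hc]; norm_num)
  obtain ⟨d, h1, h2⟩ := hd.nat hψ hψe
  rw [hc] at heT
  have h3 : d ∣ 2 * 145926144000 := by
    rcases h2 with rfl | rfl
    · exact heT.mul_left 2
    · exact Nat.mul_dvd_mul_left 2 heT
  rcases deg_Ru hn h1 h3 with h4 | h4
  · omega
  · rcases h2 with rfl | rfl
    · exact hpe h4
    · rcases (Nat.prime_five.dvd_mul).1 h4 with h | h
      · omega
      · exact hpe h

/-- a subgroup of index `22` -/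
theorem m22_elim {n : ℕ} (hn : n = 11 ∨ n = 12) {T : Type u} [Group T] [Finite T]
    (hT : commutator T = ⊤) (hd : DegOK n T) (hK : ∃ K : Subgroup T, K.index = 22) : False := by
  classical
  obtain ⟨K, hK⟩ := hK
  obtain ⟨s, hs, hsum⟩ := H621.SymDeg.exists_sum_index K
  -- natural degrees
  have hf : ∃ f : (T → ℂ) → ℕ, ∀ ψ : T → ℂ, IsIrrCharacter T ψ → 0 < f ψ ∧ ψ 1 = (f ψ : ℂ) := by
    refine ⟨fun ψ => if h : IsIrrCharacter T ψ then (Characters.Core.isIrr_apply_one h).choose else 0, ?_⟩
    intro ψ h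
    simp only [dif_pos h]
    exact (Characters.Core.isIrr_apply_one h).choose_spec
  obtain ⟨f, hf⟩ := hf
  have h1 : (s.map fun ψ => ψ 1) = (s.map f).map (Nat.cast : ℕ → ℂ) := by
    rw [Multiset.map_map]
    apply Multiset.map_congr rfl
    intro ψ hψ
    exact (hf ψ (hs ψ hψ).1).2
  have h2 : (s.map f).sum = 21 := by
    rw [h1, hK, ← Nat.cast_multiset_sum] at hsum
    have h3 : (((s.map f).sum : ℕ) : ℂ) = ((21 : ℕ) : ℂ) := by rw [hsum]; norm_num
    exact_mod_cast h3
  have h3 : ∀ ψ ∈ s, f ψ ≤ 21 ∧ 1 < f ψ := by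
    intro ψ hψ
    constructor
    · rw [← h2]
      exact Multiset.single_le_sum (fun x _ => Nat.zero_le x) _ (Multiset.mem_map_of_mem f hψ)
    · obtain ⟨g1, g2⟩ := hs ψ hψ
      obtain ⟨g3, g4⟩ := hf ψ g1
      by_contra hne
      have g5 : f ψ = 1 := by omega
      rw [g5, Nat.cast_one] at g4
      exact g2 (H621.SymDeg.eq_one_of_perfect hT g1 g4)
  have h4 : ∀ ψ ∈ s, ∃ d : ℕ, (d = f ψ ∨ d = 2 * f ψ) ∧ (d = 1 ∨ d = n - 1 ∨ n * (n - 3) ≤ 2 * d) := by
    intro ψ hψ
    obtain ⟨d, g1, g2⟩ := hd.nat (hs ψ hψ).1 (hf ψ (hs ψ hψ).1).2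
    exact ⟨d, g2, low_degree (by omega) g1⟩
  rcases hn with rfl | rfl
  · have h5 : ∀ x ∈ s.map f, 5 ∣ x := by
      intro x hx
      obtain ⟨ψ, hψ, rfl⟩ := Multiset.mem_map.1 hx
      obtain ⟨d, g1, g2⟩ := h4 ψ hψ
      have g3 := h3 ψ hψ
      omega
    have h6 := Multiset.dvd_sum h5
    rw [h2] at h6
    omega
  · have h5 : ∀ x ∈ s.map f, 11 ∣ x := by
      intro x hx
      obtain ⟨ψ, hψ, rfl⟩ := Multiset.mem_map.1 hx
      obtain ⟨d, g1, g2⟩ := h4 ψ hψ
      have g3 := h3 ψ hψ
      omega
    have h6 := Multiset.dvd_sum h5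
    rw [h2] at h6
    omega

/-- a homomorphism from a perfect group to an abelian group is trivial -/
theorem hom_eq_one {H A : Type*} [Group H] [Group A] (hH : commutator H = ⊤) (hA : ∀ a b : A, a * b = b * a)
    (f : H →* A) (x : H) : f x = 1 := by
  have hx : x ∈ commutator H := by rw [hH]; exact mem_top x
  have h1 : commutator H ≤ f.ker := by
    rw [commutator_def, commutator_le]
    intro a _ b _
    rw [MonoidHom.mem_ker, map_commutatorElement, commutatorElement_def, hA (f a) (f b)]
    group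
  exact h1 hx

/-- a normal subgroup of order `3` of a perfect group is central -/
theorem central_of_card_three {H : Type*} [Group H] (hH : commutator H = ⊤) (M : Subgroup H) [M.Normal]
    (hM : Nat.card M = 3) : M ≤ center H := by
  have : Fact (Nat.card M).Prime := ⟨by rw [hM]; exact Nat.prime_three⟩
  have hcyc : IsCyclic M := isCyclic_of_prime_card (p := Nat.card M) rfl
  have hA : ∀ a b : MulAut M, a * b = b * a := by
    obtain ⟨g, hg⟩ := hcyc.exists_generator
    intro a b
    ext x
    congr 1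
    obtain ⟨k, hk⟩ := hg (a g)
    obtain ⟨l, hl⟩ := hg (b g)
    obtain ⟨m, rfl⟩ := hg x
    simp only [MulAut.mul_apply, map_zpow] at *
    rw [← hk, ← hl]
    simp only [map_zpow]
    rw [← hk, ← hl]
    simp only [← zpow_mul]
    congr 1
    ring
  intro m hm
  rw [mem_center_iff]
  intro x
  have h1 := hom_eq_one hH hA (MulAut.conjNormal (H := M)) x
  have h2 : (MulAut.conjNormal x : MulAut M) ⟨m, hm⟩ = ⟨m, hm⟩ := by rw [h1]; rfl
  have h3 := congrArg Subtype.val h2
  rw [MulAut.conjNormal_apply] at h3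
  simp only at h3
  rw [mul_inv_eq_iff_eq_mul] at h3
  exact h3

/-- perfect central extensions of `J_2` -/
theorem card_ker_J2 {K : Type u} [Group K] [Finite K] (hK : commutator K = ⊤) (f : K →* Spor.J2)
    (hf : Function.Surjective f) (hc : f.ker ≤ center K) : Nat.card f.ker ≤ 2 := by
  let e : Shrink.{0} K ≃* K := Shrink.mulEquiv
  have : Finite (Shrink.{0} K) := Finite.of_equiv K e.symm.toEquiv
  have hstem : IsStemExtension (f.comp (e : Shrink.{0} K →* K)) := by
    refine ⟨hf.comp e.surjective, ?_, ?_⟩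
    · intro x hx
      rw [MonoidHom.mem_ker, MonoidHom.comp_apply] at hx
      have h1 := hc (MonoidHom.mem_ker.2 hx)
      rw [mem_center_iff] at h1 ⊢
      intro y
      apply e.injective
      rw [map_mul, map_mul]
      exact h1 (e y)
    · have : commutator (Shrink.{0} K) = ⊤ := by
        rw [eq_top_iff]
        have h2 : (commutator K).map (e.symm : K →* Shrink.{0} K) ≤ commutator (Shrink.{0} K) := by
          rw [commutator_def, commutator_def, map_commutator]
          exact commutator_mono le_top le_top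
        refine le_trans ?_ h2
        rw [hK, ← MonoidHom.range_eq_map]
        rw [MonoidHom.range_eq_top.2 e.symm.surjective]
      rw [this]
      exact le_top
  obtain ⟨π, hπ⟩ := S2040.result.2 _ _ hstem
  have h1 : Nat.card (f.comp (e : Shrink.{0} K →* K)).ker ≤ 2 := by
    have h2 := Nat.card_le_card_of_surjective π hπ
    rwa [Nat.card_congr Multiplicative.toAdd, Nat.card_zmod] at h2
  have h2 : Nat.card f.ker = Nat.card (f.comp (e : Shrink.{0} K →* K)).ker := by
    refine Nat.card_congr ⟨fun x => ⟨e.symm x, by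
      rw [MonoidHom.mem_ker, MonoidHom.comp_apply]
      show f (e (e.symm (x : K))) = 1
      rw [e.apply_symm_apply]
      exact x.2⟩, fun x => ⟨e x, x.2⟩, fun x => by simp, fun x => by simp⟩
  rw [h2]
  exact h1

theorem j2_elim {H : Type u} [Group H] [Finite H] (hH : commutator H = ⊤) (M : Subgroup H) [M.Normal]
    (h : Spor.IsoJ2 (H ⧸ M)) (hM : Nat.card M = 3) : False := by
  obtain ⟨e⟩ := h
  have h1 : ((e : H ⧸ M →* Spor.J2).comp (QuotientGroup.mk' M)).ker = M := by
    rw [MonoidHom.ker_mulEquiv_comp, QuotientGroup.ker_mk']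
  have h2 := card_ker_J2 hH ((e : H ⧸ M →* Spor.J2).comp (QuotientGroup.mk' M))
    (e.surjective.comp (QuotientGroup.mk'_surjective M)) (by rw [h1]; exact central_of_card_three hH M hM)
  rw [h1, hM] at h2
  omega

end Cfsg.Agent.H704
end
end

-- part: H808/SimpleQuot
section
set_option linter.all false
open scoped Cfsg.Agent.FastGrp

/-!
# Simple quotients of perfect groups (helper808, for S4905)

* `exists_simple_quotient` : a perfect finite group whose order is divisible by the prime `r` exactly once has a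
  non-abelian simple quotient of order divisible by `r`;
* `prod_card_dvd` : the product of the indices of distinct normal subgroups with non-abelian simple quotients
  divides the order of the group.
-/

set_option autoImplicit false
set_option linter.style.haveILetI false

namespace Cfsg.Agent.H808.SimpleQuot

open Cfsg Subgroup
open scoped commutatorElement

universe u

/-- the quotient by the preimage of a normal subgroup of a quotient -/
theorem quot_comap {H : Type u} [Group H] (N : Subgroup H) [N.Normal] (M : Subgroup (H ⧸ N)) [M.Normal] :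
    Nonempty (H ⧸ M.comap (QuotientGroup.mk' N) ≃* (H ⧸ N) ⧸ M) := by
  have h1 : Function.Surjective ((QuotientGroup.mk' M).comp (QuotientGroup.mk' N)) :=
    (QuotientGroup.mk'_surjective M).comp (QuotientGroup.mk'_surjective N)
  have h2 : M.comap (QuotientGroup.mk' N) = ((QuotientGroup.mk' M).comp (QuotientGroup.mk' N)).ker := by
    rw [← MonoidHom.comap_ker, QuotientGroup.ker_mk']
  exact ⟨(QuotientGroup.quotientMulEquivOfEq h2).trans (QuotientGroup.quotientKerEquivOfSurjective _ h1)⟩

theorem perfect_quot {H : Type u} [Group H] (hH : commutator H = ⊤) (N : Subgroup H) [N.Normal] :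
    commutator (H ⧸ N) = ⊤ := by
  have h1 := map_commutator (⊤ : Subgroup H) ⊤ (QuotientGroup.mk' N)
  have h2 : ⁅(⊤ : Subgroup H), ⊤⁆ = ⊤ := hH
  rw [h2, Subgroup.map_top_of_surjective _ (QuotientGroup.mk'_surjective N)] at h1
  exact h1.symm

theorem isMulCommutative_of_equiv {A B : Type*} [Group A] [Group B] (e : A ≃* B) (h : IsMulCommutative A) :
    IsMulCommutative B :=
  ⟨⟨fun a b => by
    have h1 := h.is_comm.comm (e.symm a) (e.symm b)
    simpa using congrArg e h1⟩⟩

/-- a perfect group has no normal subgroup of prime order `r` with index prime to `r` -/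
theorem no_prime {H : Type u} [Group H] [Finite H] (hH : commutator H = ⊤) {r : ℕ} (hr : r.Prime) {N : Subgroup H}
    (hN : N.Normal) (h1 : Nat.card N = r) (h2 : ¬ r ∣ N.index) : False := by
  have hf : Fact r.Prime := ⟨hr⟩
  have hcyc : IsCyclic N := isCyclic_of_prime_card h1
  -- the action on `N` is trivial
  have hab : ∀ a b : MulAut N, a * b = b * a := fun a b => by
    have h := (IsCyclic.mulAutMulEquiv N)
    exact h.injective (by rw [map_mul, map_mul, mul_comm])
  have hker : ∀ h : H, MulAut.conjNormal (H := N) h = 1 := by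
    have h3 : commutator H ≤ (MulAut.conjNormal (H := N)).ker := by
      rw [commutator_def, Subgroup.commutator_le]
      intro a _ b _
      rw [MonoidHom.mem_ker, map_commutatorElement, commutatorElement_eq_one_iff_mul_comm]
      exact hab _ _
    intro h
    have h4 : h ∈ commutator H := by rw [hH]; trivial
    exact h3 h4
  have hcen : ∀ n ∈ N, ∀ h : H, h * n = n * h := by
    intro n hn h
    have h3 := congrArg (fun φ : MulAut N => ((φ ⟨n, hn⟩ : N) : H)) (hker h)
    simp only [MulAut.conjNormal_apply, MulAut.one_apply] at h3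
    calc h * n = (h * n * h⁻¹) * h := by group
      _ = n * h := by rw [h3]
  obtain ⟨K, hK⟩ := Subgroup.exists_right_complement'_of_coprime (N := N)
    (by rw [h1]; exact (Nat.Prime.coprime_iff_not_dvd hr).2 h2)
  -- `K` is normal
  have hdec : ∀ h : H, ∃ n ∈ N, ∃ k ∈ K, h = n * k := by
    intro h
    obtain ⟨⟨n, k⟩, hnk⟩ := hK.2 h
    exact ⟨n, n.2, k, k.2, hnk.symm⟩
  have hKn : K.Normal := by
    constructor
    intro k hk h
    obtain ⟨n, hn, k', hk', rfl⟩ := hdec h
    have h3 : n * k' * k * (n * k')⁻¹ = k' * k * k'⁻¹ := by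
      have h4 := hcen n hn (k' * k * k'⁻¹)
      calc n * k' * k * (n * k')⁻¹ = n * (k' * k * k'⁻¹) * n⁻¹ := by group
        _ = k' * k * k'⁻¹ := by rw [← h4]; group
    rw [h3]
    exact K.mul_mem (K.mul_mem hk' hk) (K.inv_mem hk')
  have hcomm : commutator H ≤ K := by
    rw [commutator_def, Subgroup.commutator_le]
    intro a _ b _
    obtain ⟨n, hn, k, hk, rfl⟩ := hdec a
    obtain ⟨n', hn', k', hk', rfl⟩ := hdec b
    have h3 : ⁅(n * k : H), (n' * k' : H)⁆ = ⁅(k : H), (k' : H)⁆ := by
      have e1 := hcen n hn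
      have e2 := hcen n' hn'
      rw [commutatorElement_def, commutatorElement_def]
      calc n * k * (n' * k') * (n * k)⁻¹ * (n' * k')⁻¹ = n * (k * n') * k' * k⁻¹ * n⁻¹ * k'⁻¹ * n'⁻¹ := by group
        _ = n * (n' * k) * k' * k⁻¹ * n⁻¹ * k'⁻¹ * n'⁻¹ := by rw [e2 k]
        _ = (n * (n' * k * k' * k⁻¹)) * n⁻¹ * k'⁻¹ * n'⁻¹ := by group
        _ = ((n' * k * k' * k⁻¹) * n) * n⁻¹ * k'⁻¹ * n'⁻¹ := by rw [e1]
        _ = n' * (k * k' * k⁻¹ * k'⁻¹) * n'⁻¹ := by group
        _ = k * k' * k⁻¹ * k'⁻¹ := by rw [← e2]; group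
    rw [h3, commutatorElement_def]
    exact K.mul_mem (K.mul_mem (K.mul_mem hk hk') (K.inv_mem hk)) (K.inv_mem hk')
  have hKtop : K = ⊤ := top_le_iff.1 (hH ▸ hcomm)
  have h5 := hK.card_mul_card
  rw [hKtop, Subgroup.card_top, h1] at h5
  have h6 : 0 < Nat.card H := Nat.card_pos
  have h7 := hr.two_le
  nlinarith

/-- if `H` is perfect and the Schreier property holds for the simple normal subgroup `N`, then `H ⧸ C(N) ≃* N` -/
theorem quot_centralizer {H : Type u} [Group H] [Finite H] (hH : commutator H = ⊤) (N : Subgroup H) [N.Normal]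
    (hs : IsSimpleGroup N) (hna : ¬ IsMulCommutative N) (hsch : Cfsg.Agent.Schreier.Basic.Sch N) :
    ∃ _ : (centralizer (N : Set H)).Normal, Nonempty (N ≃* H ⧸ centralizer (N : Set H)) := by
  have hn : (centralizer (N : Set H)).Normal := inferInstance
  refine ⟨hn, ?_⟩
  set C := centralizer (N : Set H) with hC
  let f : N →* H ⧸ C := (QuotientGroup.mk' C).comp N.subtype
  -- injectivity
  have hinj : Function.Injective f := by
    rw [← MonoidHom.ker_eq_bot_iff]
    have h1 : f.ker ≤ center N := by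
      intro x hx
      rw [MonoidHom.mem_ker, MonoidHom.comp_apply, QuotientGroup.mk'_apply, QuotientGroup.eq_one_iff] at hx
      rw [Subgroup.mem_center_iff]
      intro y
      have h2 := Subgroup.mem_centralizer_iff.1 hx (y : H) y.2
      exact Subtype.ext h2
    have h2 : center N = ⊥ := by
      rcases hs.eq_bot_or_eq_top_of_normal (center N) inferInstance with h | h
      · exact h
      · exact absurd ⟨⟨fun a b => (Subgroup.mem_center_iff.1 (h ▸ Subgroup.mem_top b) a)⟩⟩ hna
    rw [h2] at h1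
    exact le_bot_iff.1 h1
  -- surjectivity
  have hsurj : Function.Surjective f := by
    have h1 : (⊤ : Subgroup H).map (MulAut.conjNormal (H := N)) ≤ (MulAut.conj : N →* MulAut N).range :=
      hsch _ (Cfsg.Agent.Schreier.Basic.map_perfect _ hH)
    intro y
    obtain ⟨h, rfl⟩ := QuotientGroup.mk'_surjective C y
    obtain ⟨n, hn⟩ := h1 ⟨h, trivial, rfl⟩
    refine ⟨n, ?_⟩
    show QuotientGroup.mk' C (n : H) = QuotientGroup.mk' C h
    rw [QuotientGroup.mk'_apply, QuotientGroup.mk'_apply, QuotientGroup.eq]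
    rw [hC, Subgroup.mem_centralizer_iff]
    intro x hx
    have h2 := congrArg (fun φ : MulAut N => ((φ ⟨x, hx⟩ : N) : H)) hn
    simp only [MulAut.conj_apply, MulAut.conjNormal_apply, Subgroup.coe_mul, Subgroup.coe_inv] at h2
    calc x * ((n : H)⁻¹ * h) = (n : H)⁻¹ * (n * x * (n : H)⁻¹) * h := by group
      _ = (n : H)⁻¹ * (h * x * h⁻¹) * h := by rw [h2]
      _ = (n : H)⁻¹ * h * x := by group
  exact ⟨MulEquiv.ofBijective f ⟨hinj, hsurj⟩⟩

theorem exists_simple_quotient {H : Type u} [Group H] [Finite H]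
    (hkn : ∀ (X : Type u) [Group X] [Finite X] [IsSimpleGroup X], IsKnownSimple' X)
    (hS : Cfsg.Agent.Schreier.Cases.SchFor.{u} @IsKnownSimple')
    (hH : commutator H = ⊤) {r : ℕ} (hr : r.Prime) (h1 : r ∣ Nat.card H) (h2 : ¬ r ^ 2 ∣ Nat.card H) :
    ∃ M : Subgroup H, ∃ _ : M.Normal, IsSimpleGroup (H ⧸ M) ∧ ¬ IsMulCommutative (H ⧸ M) ∧ r ∣ Nat.card (H ⧸ M) := by
  have key : ∀ (n : ℕ) (H : Type u) [Group H] [Finite H], Nat.card H = n → commutator H = ⊤ → r ∣ Nat.card H →
      ¬ r ^ 2 ∣ Nat.card H → ∃ M : Subgroup H, ∃ _ : M.Normal, IsSimpleGroup (H ⧸ M) ∧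
        ¬ IsMulCommutative (H ⧸ M) ∧ r ∣ Nat.card (H ⧸ M) := by
    intro n
    induction n using Nat.strong_induction_on with
    | _ n ih =>
      intro H _ _ hn hH h1 h2
      have hnt : Nontrivial H := by
        rw [← Finite.one_lt_card_iff_nontrivial]
        exact lt_of_lt_of_le hr.one_lt (Nat.le_of_dvd Nat.card_pos h1)
      obtain ⟨N, hN, hne, hmin⟩ := Cfsg.Agent.H358.TwoTransMod4.exists_min_normal H
      have hcard : Nat.card (H ⧸ N) * Nat.card N = Nat.card H :=
        (Subgroup.card_eq_card_quotient_mul_card_subgroup N).symm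
      by_cases hrN : r ∣ Nat.card (H ⧸ N)
      · have hN1 : 1 < Nat.card N := by
          have := (Subgroup.one_lt_card_iff_ne_bot N).2 hne
          exact this
        have hlt : Nat.card (H ⧸ N) < n := by
          rw [← hn, ← hcard]
          have : 0 < Nat.card (H ⧸ N) := Nat.card_pos
          nlinarith
        obtain ⟨M, hM, h3, h4, h5⟩ := ih _ hlt (H ⧸ N) rfl (perfect_quot hH N) hrN
          (fun h => h2 (h.trans (Dvd.intro _ hcard)))
        obtain ⟨e⟩ := quot_comap N M
        refine ⟨M.comap (QuotientGroup.mk' N), inferInstance, ?_, ?_, ?_⟩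
        · exact Cfsg.Agent.Schreier.KBalance.isSimpleGroup_of_equiv e h3
        · exact fun h => h4 (isMulCommutative_of_equiv e h)
        · rw [Nat.card_congr e.toEquiv]; exact h5
      · have hrn : r ∣ Nat.card N := (hr.dvd_mul.1 (hcard.symm ▸ h1)).resolve_left hrN
        have hs : IsSimpleGroup N := Cfsg.Agent.H363.Frat.isSimple_of_minimal N
          (fun L hL hLN => by
            by_cases h0 : L = ⊥
            · exact Or.inl h0
            · exact Or.inr (hmin L hL h0 hLN)) hr hrn
          (fun h => h2 (h.trans (Dvd.intro_left _ hcard)))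
        by_cases hab : IsMulCommutative N
        · exfalso
          have hp : (Nat.card N).Prime := by
            letI : CommGroup N := { (inferInstance : Group N) with mul_comm := hab.is_comm.comm }
            exact IsSimpleGroup.prime_card
          have h3 : Nat.card N = r := ((Nat.prime_dvd_prime_iff_eq hr hp).1 hrn).symm
          exact no_prime hH hr hN h3 (by rw [Subgroup.index_eq_card]; exact hrN)
        · obtain ⟨hCn, ⟨e⟩⟩ := quot_centralizer hH N hs hab (hS N hab (hkn N))
          refine ⟨centralizer (N : Set H), hCn, Cfsg.Agent.Schreier.KBalance.isSimpleGroup_of_equiv e.symm hs, ?_, ?_⟩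
          · exact fun h => hab (isMulCommutative_of_equiv e.symm h)
          · rw [← Nat.card_congr e.toEquiv]; exact hrn
  exact key _ H rfl hH h1 h2

/-- a normal subgroup with non-abelian simple quotient is meet-prime for normal subgroups -/
theorem le_of_inf_le {H : Type u} [Group H] {A B M : Subgroup H} (hA : A.Normal) (hB : B.Normal) (hM : M.Normal)
    (hs : IsSimpleGroup (H ⧸ M)) (hna : ¬ IsMulCommutative (H ⧸ M)) (h : A ⊓ B ≤ M) : A ≤ M ∨ B ≤ M := by
  by_contra hcon
  push Not at hcon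
  have htop : ∀ C : Subgroup H, C.Normal → ¬ C ≤ M → C.map (QuotientGroup.mk' M) = ⊤ := by
    intro C hC hCM
    have h1 : (C.map (QuotientGroup.mk' M)).Normal := hC.map _ (QuotientGroup.mk'_surjective M)
    rcases hs.eq_bot_or_eq_top_of_normal _ h1 with h2 | h2
    · rw [Subgroup.map_eq_bot_iff, QuotientGroup.ker_mk'] at h2
      exact absurd h2 hCM
    · exact h2
  have h1 := htop A hA hcon.1
  have h2 := htop B hB hcon.2
  apply hna
  refine ⟨⟨fun x y => ?_⟩⟩
  have hx : x ∈ A.map (QuotientGroup.mk' M) := h1 ▸ Subgroup.mem_top x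
  have hy : y ∈ B.map (QuotientGroup.mk' M) := h2 ▸ Subgroup.mem_top y
  obtain ⟨a, ha, rfl⟩ := hx
  obtain ⟨b, hb, rfl⟩ := hy
  rw [← commutatorElement_eq_one_iff_mul_comm, ← map_commutatorElement, QuotientGroup.mk'_apply,
    QuotientGroup.eq_one_iff]
  refine h (Subgroup.mem_inf.2 ⟨?_, ?_⟩)
  · rw [commutatorElement_def]
    have h3 := hA.conj_mem _ (A.inv_mem ha) b
    have h4 := A.mul_mem ha h3
    have h5 : a * b * a⁻¹ * b⁻¹ = a * (b * a⁻¹ * b⁻¹) := by group
    rw [h5]; exact h4
  · rw [commutatorElement_def]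
    exact B.mul_mem (hB.conj_mem _ hb a) (B.inv_mem hb)

theorem eq_of_le {H : Type u} [Group H] {A M : Subgroup H} (hA : A.Normal) (hM : M.Normal)
    (hsA : IsSimpleGroup (H ⧸ A)) (hs : IsSimpleGroup (H ⧸ M)) (h : A ≤ M) : A = M := by
  have h1 : (M.map (QuotientGroup.mk' A)).Normal := hM.map _ (QuotientGroup.mk'_surjective A)
  rcases hsA.eq_bot_or_eq_top_of_normal _ h1 with h2 | h2
  · rw [Subgroup.map_eq_bot_iff, QuotientGroup.ker_mk'] at h2
    exact le_antisymm h h2
  · exfalso
    have h3 : M = ⊤ := by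
      have h4 := congrArg (Subgroup.comap (QuotientGroup.mk' A)) h2
      rw [Subgroup.comap_map_eq, QuotientGroup.ker_mk', Subgroup.comap_top, sup_eq_left.2 h] at h4
      exact h4
    have h4 : Nat.card (H ⧸ M) = 1 := by
      rw [← Subgroup.index_eq_card, h3, Subgroup.index_top]
    have h5 : Subsingleton (H ⧸ M) := (Nat.card_eq_one_iff_unique.1 h4).1
    exact not_nontrivial_iff_subsingleton.2 h5 hs.toNontrivial

theorem prod_card_dvd {H : Type u} [Group H] [Finite H] (s : Finset (Subgroup H))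
    (hs : ∀ M ∈ s, ∃ _ : M.Normal, IsSimpleGroup (H ⧸ M) ∧ ¬ IsMulCommutative (H ⧸ M)) :
    ∏ M ∈ s, M.index ∣ Nat.card H := by
  classical
  have key : ∀ s : Finset (Subgroup H), (∀ M ∈ s, ∃ _ : M.Normal, IsSimpleGroup (H ⧸ M) ∧
      ¬ IsMulCommutative (H ⧸ M)) → (s.inf id).Normal ∧ (s.inf id).index = ∏ M ∈ s, M.index ∧
      ∀ M : Subgroup H, (∃ _ : M.Normal, IsSimpleGroup (H ⧸ M) ∧ ¬ IsMulCommutative (H ⧸ M)) → s.inf id ≤ M →
        M ∈ s := by
    intro s
    induction s using Finset.induction_on with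
    | empty =>
      intro _
      refine ⟨by rw [Finset.inf_empty]; infer_instance, by rw [Finset.inf_empty]; simp, ?_⟩
      rintro M ⟨hM, h1, h2⟩ h3
      rw [Finset.inf_empty, top_le_iff] at h3
      exfalso
      have h4 : Nat.card (H ⧸ M) = 1 := by
        rw [← Subgroup.index_eq_card, h3, Subgroup.index_top]
      have h5 : Subsingleton (H ⧸ M) := (Nat.card_eq_one_iff_unique.1 h4).1
      exact not_nontrivial_iff_subsingleton.2 h5 h1.toNontrivial
    | insert M s hMs ih =>
      intro hs
      obtain ⟨h1, h2, h3⟩ := ih (fun N hN => hs N (Finset.mem_insert_of_mem hN))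
      obtain ⟨hM, hM1, hM2⟩ := hs M (Finset.mem_insert_self M s)
      set A := s.inf id with hA
      have hAM : ¬ A ≤ M := fun h => hMs (h3 M ⟨hM, hM1, hM2⟩ h)
      have hinf : (insert M s).inf id = M ⊓ A := by rw [Finset.inf_insert]; rfl
      have hsup : A ⊔ M = ⊤ := by
        have h4 : (A.map (QuotientGroup.mk' M)).Normal := h1.map _ (QuotientGroup.mk'_surjective M)
        rcases hM1.eq_bot_or_eq_top_of_normal _ h4 with h5 | h5
        · rw [Subgroup.map_eq_bot_iff, QuotientGroup.ker_mk'] at h5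
          exact absurd h5 hAM
        · have h6 := congrArg (Subgroup.comap (QuotientGroup.mk' M)) h5
          rwa [Subgroup.comap_map_eq, QuotientGroup.ker_mk', Subgroup.comap_top] at h6
      refine ⟨by rw [hinf]; infer_instance, ?_, ?_⟩
      · rw [hinf, Finset.prod_insert hMs, ← h2, ← Subgroup.relIndex_mul_index (H := M ⊓ A) (K := A) inf_le_right,
          Subgroup.inf_relIndex_right]
        congr 1
        rw [← Subgroup.relIndex_sup_right, hsup, Subgroup.relIndex_top_right]
      · rintro N ⟨hN, hN1, hN2⟩ hle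
        rw [hinf] at hle
        rcases le_of_inf_le hM h1 hN hN1 hN2 hle with h4 | h4
        · rw [← eq_of_le hM hN hM1 hN1 h4]
          exact Finset.mem_insert_self M s
        · exact Finset.mem_insert_of_mem (h3 N ⟨hN, hN1, hN2⟩ h4)
  obtain ⟨h1, h2, -⟩ := key s hs
  rw [← h2]
  exact Subgroup.index_dvd_card _

end Cfsg.Agent.H808.SimpleQuot
end
end
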