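import Cfsg.Agent.H704.PP
import Cfsg.Agent.H704.SporCases_m3
import Cfsg.Agent.H621.SymDeg.Final
import Cfsg.Agent.H603.SporElim
import Cfsg.Agent.H937.SmallElimT
import Cfsg.Agent.H937.L34Seven
import Cfsg.Agent.H283.SporLie_m3
import Cfsg.Agent.H167.HasStLie
import Cfsg.Agent.OrdCrit.Main
import Cfsg.Agent.OrdDiv.Table
import Cfsg.Agent.H964.NoHall.RowsM
import Cfsg.Agent.PreUniq.Cases
import Cfsg.Agent.H597.Degrees
import Cfsg.Agent.S0243
import Cfsg.Agent.H894.CompSimp_m3
import Cfsg.Agent.Prune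
set_option linter.all false
prune_inst 0x7f00000000000000000000000000000000000000000000000000000000000000000000000000000000000000000000000000000000000000000000000000000000000000000000000000000000000000003fffffffffffffffffffffffffffbeffbdffffffff
open scoped Cfsg.Agent.FastGrp

/-!
# A group with the degree multiset of `S_n` is `S_n` (helper704)
-/

set_option autoImplicit false
set_option linter.unusedSectionVars false

universe u

namespace Cfsg.Agent.H704

open Cfsg Subgroup

/-- no irreducible character of degree two -/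
theorem not_isDeg_two {n : ℕ} (hn : 5 ≤ n) : ¬ IsDeg n 2 := by
  intro h
  by_cases h9 : 9 ≤ n
  · rcases low_degree h9 h with h1 | h1 | h1
    · omega
    · omega
    · have h2 : 9 * 6 ≤ n * (n - 3) := Nat.mul_le_mul h9 (by omega)
      omega
  · obtain ⟨g5, g6, g7, g8, -⟩ := deg_small h
    have : n = 5 ∨ n = 6 ∨ n = 7 ∨ n = 8 := by omega
    rcases this with rfl | rfl | rfl | rfl
    · have := g5 rfl; revert this; decide
    · have := g6 rfl; revert this; decide
    · have := g7 rfl; revert this; decide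
    · have := g8 rfl; revert this; decide

section

variable {n : ℕ} {G : Type u} [Group G] [Finite G] (f : IrrCharacter G ≃ IrrCharacter (Equiv.Perm (Fin n)))
  (hf : ∀ χ : IrrCharacter G, charDegree ((f χ) : Equiv.Perm (Fin n) → ℂ) = charDegree (χ : G → ℂ))

include f hf

/-- the degrees -/
theorem deg_of_equiv {χ : G → ℂ} (hχ : IsIrrCharacter G χ) : ∃ d : ℕ, χ 1 = d ∧ IsDeg n d := by
  obtain ⟨d, h1, h2⟩ := isDeg_of_irr (f ⟨χ, hχ⟩).2
  refine ⟨d, ?_, h2⟩
  have h3 := hf ⟨χ, hχ⟩
  rw [Blocks.Basic.irr_one_eq_charDegree hχ, ← h3, ← Blocks.Basic.irr_one_eq_charDegree (f ⟨χ, hχ⟩).2, h1]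

theorem index_eq_two (hn : 5 ≤ n) : (commutator G).index = 2 := by
  have : Nontrivial (Fin n) := Fin.nontrivial_iff_two_le.2 (by omega)
  rw [H621.SymDeg.index_commutator_eq f hf, alternatingGroup.commutator_perm_eq (by rw [Nat.card_fin]; exact hn)]
  exact alternatingGroup.index_eq_two

theorem two_mul_card (hn : 5 ≤ n) : 2 * Nat.card (commutator G) = n.factorial := by
  have h1 := (commutator G).card_mul_index
  rw [index_eq_two f hf hn, H621.SymDeg.card_eq_of f hf, Nat.card_perm, Nat.card_fin] at h1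
  rw [mul_comm]
  exact h1

theorem perfect (hn : 5 ≤ n) : commutator ↥(commutator G) = ⊤ := by
  refine H621.SymDeg.perfect_of_degrees ?_ (index_eq_two f hf hn)
  intro χ hχ h2
  obtain ⟨d, h3, h4⟩ := deg_of_equiv f hf hχ
  rw [h3] at h2
  have h5 : d = 2 := by exact_mod_cast h2
  exact not_isDeg_two hn (h5 ▸ h4)

theorem degOK (hn : 5 ≤ n) : DegOK n ↥(commutator G) := by
  intro ψ hψ
  obtain ⟨χ, h1, h2⟩ := H621.SymDeg.exists_over (index_eq_two f hf hn) hψ
  obtain ⟨d, h3, h4⟩ := deg_of_equiv f hf h1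
  refine ⟨d, h4, ?_⟩
  rw [← h3]
  exact h2

end

/-! ### Quotients of `H = G'` -/

theorem perfect_quot {H : Type*} [Group H] (hH : commutator H = ⊤) (M : Subgroup H) [M.Normal] :
    commutator (H ⧸ M) = ⊤ := by
  rw [eq_top_iff]
  have h2 : (commutator H).map (QuotientGroup.mk' M) ≤ commutator (H ⧸ M) := by
    rw [commutator_def, commutator_def, map_commutator]
    exact commutator_mono le_top le_top
  refine le_trans ?_ h2
  rw [hH, ← MonoidHom.range_eq_map, MonoidHom.range_eq_top.2 (QuotientGroup.mk'_surjective M)]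

theorem iso_of_quot {H : Type*} [Group H] [Finite H] (M : Subgroup H) [M.Normal] {n : ℕ} (hn : 5 ≤ n)
    (hN : 2 * Nat.card H = n.factorial) (h : Nonempty ((H ⧸ M) ≃* alternatingGroup (Fin n))) :
    Nonempty (H ≃* alternatingGroup (Fin n)) := by
  obtain ⟨e⟩ := h
  have : Nontrivial (Fin n) := Fin.nontrivial_iff_two_le.2 (by omega)
  have h1 : Nat.card (H ⧸ M) = Nat.card H := by
    have h2 := two_mul_nat_card_alternatingGroup (α := Fin n)
    rw [Nat.card_perm, Nat.card_fin, ← hN, ← Nat.card_congr e.toEquiv] at h2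
    omega
  have hinj : Function.Injective (QuotientGroup.mk' M) :=
    ((Nat.bijective_iff_surjective_and_card _).2 ⟨QuotientGroup.mk'_surjective M, h1.symm⟩).1
  exact ⟨(MulEquiv.ofBijective (QuotientGroup.mk' M) ⟨hinj, QuotientGroup.mk'_surjective M⟩).trans e⟩

theorem card_quot_dvd {H : Type*} [Group H] [Finite H] (M : Subgroup H) [M.Normal] {n : ℕ}
    (hN : 2 * Nat.card H = n.factorial) : 2 * Nat.card (H ⧸ M) ∣ n.factorial := by
  rw [← hN]
  exact Nat.mul_dvd_mul_left 2 (Subgroup.card_quotient_dvd_card M)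

/-- a prime in `(n / 2, n]` divides `n !` exactly once -/
theorem prime_facts {n r N : ℕ} (hn : 5 ≤ n) (hN : 2 * N = n.factorial) (hr : r.Prime) (h1 : n < 2 * r) (h2 : r ≤ n) :
    r ∣ N ∧ ¬ r ^ 2 ∣ N := by
  constructor
  · have h3 : r ∣ 2 * N := by rw [hN]; exact (hr.dvd_factorial).2 h2
    rcases hr.dvd_mul.1 h3 with h | h
    · have := Nat.le_of_dvd (by norm_num) h
      omega
    · exact h
  · intro h3
    have h8 : r ^ 2 ∣ n.factorial := by rw [← hN]; exact h3.mul_left 2
    have hpp : r * r > n := by nlinarith [hr.two_le]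
    rw [(hr.pow_dvd_factorial_iff (n := n) (r := 2) (b := 2) (by
      exact Nat.log_lt_of_lt_pow (by omega) (by rw [pow_two]; exact hpp)))] at h8
    have h9 : ∑ i ∈ Finset.Ico 1 2, n / r ^ i = n / r := by simp
    rw [h9] at h8
    have h10 := (Nat.le_div_iff_mul_le hr.pos).1 h8
    omega

/-- the check of the orders for `n = 12` -/
def ordChk (l : List (ℕ × ℕ)) (N : ℕ) : Bool :=
  (OrdDiv.cands l N).all fun g => !(Nat.beq (OrdDiv.ordN g % 27) 0) || Nat.beq (OrdDiv.ordN g % 81) 0 ||
    Nat.ble 19683 (OrdDiv.ordN g) || Nat.beq (OrdDiv.ordN g) 6048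

theorem card_twelve {T : Type u} [Group T] [Finite T] [IsSimpleGroup T] (hkn : IsKnownSimple' T)
    (hna : ¬ IsMulCommutative T) (hdvd : 2 * Nat.card T ∣ Nat.factorial 12)
    (h27 : 3 ^ (Nat.card T).factorization 3 = 27) (hlt : Nat.card T < 27 ^ 3) : Nat.card T = 6048 := by
  have hv : OrdDiv.valid [(2, 9), (3, 5), (5, 2), (7, 1), (11, 1)] 239500800 = true := by decide +kernel
  have hd : Nat.card T ∣ 239500800 := by
    have h1 : Nat.factorial 12 = 2 * 239500800 := by decide +kernel
    rw [h1] at hdvd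
    exact Nat.dvd_of_mul_dvd_mul_left (by norm_num) hdvd
  obtain ⟨g, hg, -, ho⟩ := OrdDiv.exists_good OrdDiv.table hkn (fun h => hna ⟨⟨h⟩⟩) hv hd
  have hc : ordChk [(2, 9), (3, 5), (5, 2), (7, 1), (11, 1)] 239500800 = true := by decide +kernel
  unfold ordChk at hc
  rw [List.all_eq_true] at hc
  have h1 := hc g hg
  rw [← ho] at h1
  simp only [Bool.or_eq_true, Bool.not_eq_true', Nat.ble_eq] at h1
  have h3 : (Nat.card T).factorization 3 = 3 := by
    apply Nat.pow_right_injective (le_refl 3 |>.trans' (by norm_num) : 2 ≤ 3)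
    simpa using h27
  have h4 : 27 ∣ Nat.card T := by
    have := (Nat.prime_three.pow_dvd_iff_le_factorization (k := 3) (Nat.card_pos (α := T)).ne').2 (by omega)
    norm_num at this
    exact this
  have h5 : ¬ 81 ∣ Nat.card T := by
    intro h
    have := (Nat.prime_three.pow_dvd_iff_le_factorization (k := 4) (Nat.card_pos (α := T)).ne').1 (by norm_num; exact h)
    omega
  rcases h1 with ((h1 | h1) | h1) | h1
  · exfalso
    rw [Nat.mod_eq_zero_of_dvd h4] at h1
    exact absurd h1 (by decide)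
  · exact absurd (Nat.dvd_of_mod_eq_zero (Nat.eq_of_beq_eq_true h1)) h5
  · exfalso; norm_num at hlt; omega
  · exact Nat.eq_of_beq_eq_true h1

/-- a simple quotient of order divisible by a prime `r` with `n + 1 < 2 r ≤ 2 n` -/
theorem quot_cases {n : ℕ} (hn : 10 ≤ n) {T : Type u} [Group T] [Finite T] [IsSimpleGroup T] (hkn : IsKnownSimple' T)
    (hna : ¬ IsMulCommutative T) (hT : commutator T = ⊤) (hd : DegOK n T) (hdvd : 2 * Nat.card T ∣ n.factorial)
    {r : ℕ} (hr : r.Prime) (hrn : n + 1 < 2 * r) (hrT : r ∣ Nat.card T) :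
    Nonempty (T ≃* alternatingGroup (Fin n)) ∨ IsSporadicGroup T ∨ Lie.IsoTits T := by
  rcases PreUniq.known_cases hkn with h | ⟨m, hm, ⟨e⟩⟩ | ⟨p, hp, h⟩ | h | h
  · exfalso
    have : Fact (Nat.card T).Prime := ⟨h⟩
    have : IsCyclic T := isCyclic_of_prime_card (p := Nat.card T) rfl
    exact hna inferInstance
  · have := alt_elim (by omega) hd hm e hr hrn hrT hdvd
    subst this
    exact Or.inl ⟨e⟩
  · exfalso
    have hcube : Nat.card T < (p ^ (Nat.card T).factorization p) ^ 3 := by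
      by_cases hp2 : p = 2
      · subst hp2
        exact H808.SmallSylow.card_lt_cube_two h
      · exact OrdCrit.card_lt_cube hp hp2 h
    obtain ⟨χ, h1, h2, -⟩ := H167.StChar.hasSt_of_lie hp h
    refine lie_elim hn (fun {d p e} => pp_theorem hn) hp hT hd rfl ⟨χ, h1, h2⟩ hcube
      (H808.SmallSylow.card_of_small_sylow hp h) ?_
    intro h12 h27
    subst h12
    have hp3 : p = 3 := by
      have h6 : p ∣ 3 := hp.dvd_of_dvd_pow (show p ∣ 3 ^ 3 by
        have h7 : (Nat.card T).factorization p ≠ 0 := by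
          intro h0
          rw [h0, pow_zero] at h27
          norm_num at h27
        rw [show (3 : ℕ) ^ 3 = 27 by norm_num, ← h27]
        exact dvd_pow_self p h7)
      exact (Nat.prime_dvd_prime_iff_eq hp Nat.prime_three).1 h6
    subst hp3
    rw [h27] at hcube
    exact card_twelve hkn hna hdvd h27 hcube
  · exact Or.inr (Or.inr h)
  · exact Or.inr (Or.inl h)

/-- `H ≅ A_n` for `10 ≤ n` -/
theorem iso_large {n : ℕ} (hn : 10 ≤ n) (hkn : ∀ (X : Type u) [Group X] [Finite X] [IsSimpleGroup X], IsKnownSimple' X)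
    (hS : Cfsg.Agent.Schreier.Cases.SchFor.{u} @IsKnownSimple') {H : Type u} [Group H] [Finite H]
    (hH : commutator H = ⊤) (hd : DegOK n H) (hN : 2 * Nat.card H = n.factorial) :
    Nonempty (H ≃* alternatingGroup (Fin n)) := by
  by_contra hno
  have hM : ∀ r : ℕ, r.Prime → n + 1 < 2 * r → r ≤ n → ∃ M : Subgroup H, ∃ _ : M.Normal,
      IsSimpleGroup (H ⧸ M) ∧ ¬ IsMulCommutative (H ⧸ M) ∧ r ∣ Nat.card (H ⧸ M) ∧
      (IsSporadicGroup (H ⧸ M) ∨ Lie.IsoTits (H ⧸ M)) := by
    intro r hr h1 h2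
    obtain ⟨g1, g2⟩ := prime_facts (by omega) hN hr (by omega) h2
    obtain ⟨M, hMn, hMs, hMc, hMr⟩ := H808.SimpleQuot.exists_simple_quotient hkn hS hH hr g1 g2
    refine ⟨M, hMn, hMs, hMc, hMr, ?_⟩
    rcases quot_cases hn (hkn _) hMc (perfect_quot hH M) (hd.of_surj (QuotientGroup.mk' M)
      (QuotientGroup.mk'_surjective M)) (card_quot_dvd M hN) hr h1 hMr with h | h
    · exact absurd (iso_of_quot M (by omega) hN h) hno
    · exact h
  obtain ⟨M, hMn, h⟩ := H603.SporElim.spor_elim hn hN hM (fun s hs => H808.SimpleQuot.prod_card_dvd s hs)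
  have hT := perfect_quot hH M
  have hdT : DegOK n (H ⧸ M) := hd.of_surj (QuotientGroup.mk' M) (QuotientGroup.mk'_surjective M)
  rcases h with ⟨h1, h2⟩ | ⟨h1, h2⟩ | ⟨h1, h2⟩ | ⟨h1, h2⟩
  · subst h1
    refine j2_elim hH M h2 ?_
    have h3 := M.card_eq_card_quotient_mul_card_subgroup
    rw [NotCT.Orders.j2 h2] at h3
    have h4 : Nat.factorial 10 = 3628800 := by decide +kernel
    rw [h4] at hN
    omega
  · refine m22_elim h1 hT hdT ?_
    obtain ⟨e⟩ := h2
    refine ⟨(MulAction.stabilizer Spor.M22 (some 1 : GolayPt)).comap (e : H ⧸ M →* Spor.M22), ?_⟩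
    rw [Subgroup.index_comap_of_surjective _ e.surjective]
    exact H964.NoHall.m22_index
  · exact j3_elim h1 hT hdT (NotCT.Orders.j3 h2)
  · exact ru_elim h1 hT hdT (NotCT.Orders.ru h2)

/-- `H ≅ A_n` for `5 ≤ n ≤ 9` -/
theorem iso_small {n : ℕ} (h5 : 5 ≤ n) (h9 : n ≤ 9)
    (hkn : ∀ (X : Type u) [Group X] [Finite X] [IsSimpleGroup X], IsKnownSimple' X)
    (hS : Cfsg.Agent.Schreier.Cases.SchFor.{u} @IsKnownSimple') {H : Type u} [Group H] [Finite H]
    (hH : commutator H = ⊤) (hd : DegOK n H) (hN : 2 * Nat.card H = n.factorial)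
    (h7 : n = 8 → ∃ ψ : H → ℂ, IsIrrCharacter H ψ ∧ ψ 1 = 7) :
    Nonempty (H ≃* alternatingGroup (Fin n)) := by
  obtain ⟨g1, g2⟩ := prime_facts h5 hN Nat.prime_five (by omega) h5
  obtain ⟨M, hMn, hMs, hMc, hMr⟩ := H808.SimpleQuot.exists_simple_quotient hkn hS hH Nat.prime_five g1 g2
  have hdT : DegOK n (H ⧸ M) := hd.of_surj (QuotientGroup.mk' M) (QuotientGroup.mk'_surjective M)
  have h7T : 7 ≤ n → 7 ∣ Nat.card (H ⧸ M) ∨ 2 * Nat.card (H ⧸ M) * 60 ≤ n.factorial := by
    intro h7n
    obtain ⟨k1, k2⟩ := prime_facts h5 hN Nat.prime_seven (by omega) h7n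
    obtain ⟨L, hLn, hLs, hLc, hLr⟩ := H808.SimpleQuot.exists_simple_quotient hkn hS hH Nat.prime_seven k1 k2
    by_cases hML : M = L
    · subst hML
      exact Or.inl hLr
    · right
      classical
      have h3 := H808.SimpleQuot.prod_card_dvd ({M, L} : Finset (Subgroup H)) (by
        intro K hK
        rw [Finset.mem_insert, Finset.mem_singleton] at hK
        rcases hK with rfl | rfl
        · exact ⟨hMn, hMs, hMc⟩
        · exact ⟨hLn, hLs, hLc⟩)
      rw [Finset.prod_pair hML] at h3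
      have h4 := Nat.le_of_dvd Nat.card_pos h3
      have h5 : 60 ≤ L.index := H894.sixty_le hLc
      have h6 : M.index * 60 ≤ M.index * L.index := Nat.mul_le_mul_left _ h5
      rw [← hN]
      change 2 * M.index * 60 ≤ _
      nlinarith
  rcases H937.SmallElim.small_elim h5 h9 (hkn _) hMc hdT (card_quot_dvd M hN) hMr h7T with h | ⟨h8, F, _, _, hF, ⟨e⟩⟩
  · exact iso_of_quot M h5 hN h
  · exfalso
    subst h8
    obtain ⟨ψ, hψ, hψ7⟩ := h7 rfl
    -- `M` is trivial
    have hc : Nat.card (H ⧸ M) = 20160 := by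
      have h1 := S0243.result hF 3 (by norm_num)
      rw [← Nat.card_congr e.toEquiv, Fin.prod_univ_three] at h1
      norm_num at h1
      omega
    have hH8 : Nat.card H = 20160 := by
      have h4 : Nat.factorial 8 = 40320 := by decide +kernel
      omega
    have hinj : Function.Injective (QuotientGroup.mk' M) :=
      ((Nat.bijective_iff_surjective_and_card _).2 ⟨QuotientGroup.mk'_surjective M, by rw [hc, hH8]⟩).1
    exact H937.L34.l34_no_seven hF
      ((MulEquiv.ofBijective (QuotientGroup.mk' M) ⟨hinj, QuotientGroup.mk'_surjective M⟩).trans e) ψ hψ hψ7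

/-- **A group with the degree multiset of `S_n` is `S_n`** (given the classification and the Schreier property) -/
theorem main {n : ℕ} (hkn : ∀ (X : Type u) [Group X] [Finite X] [IsSimpleGroup X], IsKnownSimple' X)
    (hS : Cfsg.Agent.Schreier.Cases.SchFor.{u} @IsKnownSimple') {G : Type u} [Group G] [Finite G]
    (f : IrrCharacter G ≃ IrrCharacter (Equiv.Perm (Fin n)))
    (hf : ∀ χ : IrrCharacter G, charDegree ((f χ) : Equiv.Perm (Fin n) → ℂ) = charDegree (χ : G → ℂ)) :
    Nonempty (G ≃* Equiv.Perm (Fin n)) := by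
  by_cases h4 : n ≤ 4
  · exact H621.SymDeg.le_four h4 f hf
  have h5 : 5 ≤ n := by omega
  have hi := index_eq_two f hf h5
  have hH := perfect f hf h5
  have hd := degOK f hf h5
  have hN := two_mul_card f hf h5
  have h : Nonempty (↥(commutator G) ≃* alternatingGroup (Fin n)) := by
    by_cases h9 : n ≤ 9
    · refine iso_small h5 h9 hkn hS hH hd hN ?_
      intro h8
      subst h8
      obtain ⟨χ, hχ, hχ7⟩ := H621.SymDeg.exists_deg (by norm_num) f hf
      have hfin : Fintype G := Fintype.ofFinite G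
      have hc7 : charDegree χ = 7 := by
        have h1 := Blocks.Basic.irr_one_eq_charDegree hχ
        rw [hχ7] at h1
        exact_mod_cast h1.symm
      refine ⟨fun x => χ x, H597.Degrees.isIrr_restrict_of_coprime _ hχ (by rw [hi, hc7]; norm_num), ?_⟩
      show χ ((1 : ↥(commutator G)) : G) = 7
      rw [OneMemClass.coe_one, hχ7]
      norm_num
    · exact iso_large (by omega) hkn hS hH hd hN
  obtain ⟨e⟩ := h
  exact H621.SymDeg.final_iso h5 e hi f hf

end Cfsg.Agent.H704
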